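import Mathlib.GroupTheory.SemidirectProduct
import Mathlib.GroupTheory.Subgroup.Centralizer
import Cfsg.Agent.S0058

/-!
# Generation by fixed points of automorphisms

`gen`: a noncyclic abelian group `A` of automorphisms of `P`, `Q` an `A`-invariant subgroup of
order prime to `|A|`: `Q` is generated by the elements of `Q` fixed by some nonidentity `a ∈ A`.
-/

set_option autoImplicit false

namespace Cfsg.Agent.H586.GenAut

/-- Generation of an invariant subgroup by the fixed points of the nonidentity elements of a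
noncyclic abelian group of automorphisms of coprime order. -/
theorem gen {P : Type*} [Group P] [Finite P] (A : Subgroup (MulAut P)) [IsMulCommutative ↥A]
    (hA : ¬ IsCyclic ↥A) (Q : Subgroup P) (hQ : ∀ a ∈ A, ∀ x ∈ Q, a x ∈ Q)
    (hcop : (Nat.card ↥A).Coprime (Nat.card ↥Q)) :
    Q ≤ Subgroup.closure {x | x ∈ Q ∧ ∃ a ∈ A, a ≠ 1 ∧ a x = x} := by
  have : Finite (MulAut P) :=
    Finite.of_injective (fun g : MulAut P => (g : P → P)) DFunLike.coe_injective
  let φ : ↥A →* MulAut P := A.subtype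
  haveI : Finite (P ⋊[φ] ↥A) := Finite.of_equiv _ SemidirectProduct.equivProd.symm
  let i : P →* P ⋊[φ] ↥A := SemidirectProduct.inl
  let j : ↥A →* P ⋊[φ] ↥A := SemidirectProduct.inr
  have hi : Function.Injective i := SemidirectProduct.inl_injective
  have hj : Function.Injective j := SemidirectProduct.inr_injective
  have hconj : ∀ (a : ↥A) (x : P), j a * i x * (j a)⁻¹ = i ((a : MulAut P) x) := by
    intro a x
    rw [← map_inv]
    exact (SemidirectProduct.inl_aut a x).symm
  let B : Subgroup (P ⋊[φ] ↥A) := j.range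
  let K : Subgroup (P ⋊[φ] ↥A) := Q.map i
  have hB : IsMulCommutative ↥B := by
    refine ⟨⟨?_⟩⟩
    rintro ⟨_, a, rfl⟩ ⟨_, b, rfl⟩
    ext1
    change j a * j b = j b * j a
    rw [← map_mul, ← map_mul]
    congr 1
    exact mul_comm' a b
  have hcard : Nat.card ↥B = Nat.card ↥A :=
    (Nat.card_congr (MonoidHom.ofInjective hj).toEquiv).symm
  have hcardK : Nat.card ↥K = Nat.card ↥Q :=
    (Nat.card_congr (Q.equivMapOfInjective i hi).toEquiv).symm
  have hBc : ¬ IsCyclic ↥B := by
    intro h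
    apply hA
    exact (MulEquiv.isCyclic (MonoidHom.ofInjective hj)).mpr h
  have hBK : B ≤ Subgroup.normalizer (K : Set (P ⋊[φ] ↥A)) := by
    rintro _ ⟨a, rfl⟩
    rw [Subgroup.mem_normalizer_iff]
    intro h
    constructor
    · rintro ⟨x, hx, rfl⟩
      rw [hconj]
      exact Subgroup.mem_map_of_mem _ (hQ _ a.2 x hx)
    · rintro ⟨x, hx, hxe⟩
      have e : h = i (((a⁻¹ : ↥A) : MulAut P) x) := by
        rw [← hconj, hxe, map_inv]; group
      rw [e]
      exact Subgroup.mem_map_of_mem _ (hQ _ (a⁻¹).2 x hx)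
  have key := Cfsg.Agent.S0058.result B K hBc hBK (by rw [hcard, hcardK]; exact hcop)
  have hle : K ≤ (Subgroup.closure {x | x ∈ Q ∧ ∃ a ∈ A, a ≠ 1 ∧ a x = x}).map i := by
    rw [← key]
    refine iSup₂_le ?_
    rintro b ⟨⟨a, rfl⟩, hb1⟩
    rintro k ⟨⟨x, hx, rfl⟩, hkc⟩
    refine Subgroup.mem_map_of_mem _ (Subgroup.subset_closure ⟨hx, a, a.2, ?_, ?_⟩)
    · intro h
      apply hb1
      have : a = 1 := by ext1; exact h
      rw [this, map_one]
    · have h1 := Subgroup.mem_centralizer_iff.mp hkc (j a) rfl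
      apply hi
      rw [← hconj, h1]; group
  intro x hx
  obtain ⟨y, hy, hyx⟩ := hle (Subgroup.mem_map_of_mem i hx)
  rwa [← hi hyx]

end Cfsg.Agent.H586.GenAut
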