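import Cfsg.Agent.H586.AutStar
import Cfsg.Agent.S0618
import Cfsg.Agent.S0605
import Cfsg.Agent.S0602
import Cfsg.Agent.PLocal.StableClosure
import Cfsg.Agent.PLocal.FFFamily

/-!
# `{p, q}`-groups satisfying the `Star` condition

If `X` is a finite `p`-solvable `{p, q}`-group with `O_{p'}(X) = 1`, `{p, q} ≠ {2, 3}`, and the
`q`-elements of `X` centralise the characteristic subgroups of a Sylow `p`-subgroup that they
normalise, then `X` is a `p`-group.
-/

set_option autoImplicit false

open Subgroup Cfsg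

namespace Cfsg.Agent.H586.AutPQ

open Cfsg.Agent.H586.AutStar

universe u

/-- a central `p`-subgroup of index prime to `p` has a characteristic complement -/
theorem central_split {D : Type*} [Group D] [Finite D] {p : ℕ} [hp : Fact p.Prime] (W : Subgroup D)
    (hWc : W ≤ center D) (hWp : IsPGroup p W) (hi : ¬ p ∣ W.index) :
    ∃ K : Subgroup D, K.Characteristic ∧ (Nat.card K).Coprime p ∧ W ⊔ K = ⊤ ∧ W ⊓ K = ⊥ ∧
      K.index = Nat.card W := by
  obtain ⟨n, hn⟩ := hWp.exists_card_eq
  have hcop : Nat.Coprime (Nat.card W) W.index := by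
    rw [hn]
    exact Nat.Coprime.pow_left n ((Nat.Prime.coprime_iff_not_dvd hp.out).2 hi)
  have : W.Normal := ⟨fun w hw g => by
    have h1 : g * w = w * g := mem_center_iff.1 (hWc hw) g
    rw [h1, mul_inv_cancel_right]; exact hw⟩
  obtain ⟨K, hK⟩ := Subgroup.exists_right_complement'_of_coprime hcop
  have hKc : (Nat.card K).Coprime p := by
    have h1 : Nat.card K = W.index := hK.symm.index_eq_card.symm
    rw [h1]
    exact ((Nat.Prime.coprime_iff_not_dvd hp.out).2 hi).symm
  refine ⟨K, ?_, hKc, hK.sup_eq_top, hK.disjoint.eq_bot, hK.index_eq_card⟩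
  rw [characteristic_iff_le_comap]
  intro φ x hx
  show φ x ∈ K
  have h1 : φ x ∈ (W ⊔ K : Subgroup D) := by rw [hK.sup_eq_top]; trivial
  rw [mem_sup_of_normal_left] at h1
  obtain ⟨w, hw, k, hk, hwk⟩ := h1
  have hcomm : Commute w k := (mem_center_iff.1 (hWc hw) k).symm
  have h2 : (φ x) ^ Nat.card K = 1 := by
    rw [← map_pow, orderOf_dvd_iff_pow_eq_one.1 (Subgroup.orderOf_dvd_natCard K hx), map_one]
  rw [← hwk, hcomm.mul_pow, (orderOf_dvd_iff_pow_eq_one.1 (Subgroup.orderOf_dvd_natCard K hk)),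
    mul_one] at h2
  have h3 : w ^ (p ^ n) = 1 := by
    rw [← hn]; exact orderOf_dvd_iff_pow_eq_one.1 (Subgroup.orderOf_dvd_natCard W hw)
  have h4 : orderOf w ∣ 1 := by
    have h5 : Nat.Coprime (Nat.card K) (p ^ n) := hKc.pow_right n
    rw [← h5]
    exact Nat.dvd_gcd (orderOf_dvd_of_pow_eq_one h2) (orderOf_dvd_of_pow_eq_one h3)
  have h5 : w = 1 := by
    rw [Nat.dvd_one, orderOf_eq_one_iff] at h4; exact h4
  rw [← hwk, h5, one_mul]
  exact hk

/-- `O_{p'}` of the quotient by a central `p`-subgroup -/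
theorem pPrimeCore_quotient_central {X : Type*} [Group X] [Finite X] {p : ℕ} [hp : Fact p.Prime]
    (hX : pPrimeCore p X = ⊥) (W : Subgroup X) [W.Normal] (hWc : W ≤ center X)
    (hWp : IsPGroup p W) : pPrimeCore p (X ⧸ W) = ⊥ := by
  set E := pPrimeCore p (X ⧸ W) with hE
  have hEn : E.Normal := Lib.Cores.pPrimeCore_normal p
  have hEc : (Nat.card E).Coprime p := Lib.Cores.pPrimeCore_coprime p
  set D := E.comap (QuotientGroup.mk' W) with hD
  have hDn : D.Normal := hEn.comap _
  have hWD : W ≤ D := by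
    intro w hw
    show QuotientGroup.mk' W w ∈ E
    have : QuotientGroup.mk' W w = 1 := (QuotientGroup.eq_one_iff w).2 hw
    rw [this]; exact one_mem _
  have hcard : Nat.card D = Nat.card W * Nat.card E := by
    have h1 := Subgroup.card_mul_index (W.subgroupOf D)
    have h2 : Nat.card (W.subgroupOf D) = Nat.card W :=
      Nat.card_congr (subgroupOfEquivOfLe hWD).toEquiv
    have h3 : (W.subgroupOf D).index = Nat.card E := by
      have h4 : W.relIndex D = Nat.card E := by
        have h5 := Subgroup.relIndex_ker (K := D) (QuotientGroup.mk' W)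
        rw [QuotientGroup.ker_mk'] at h5
        rw [h5]
        have h6 : D.map (QuotientGroup.mk' W) = E :=
          map_comap_eq_self_of_surjective (QuotientGroup.mk'_surjective W) E
        rw [← h6]
      exact h4
    rw [← h1, h2, h3]
  obtain ⟨K, hKchar, hKc, hsup, hinf, -⟩ := central_split (p := p) (W.subgroupOf D) (by
      rintro ⟨w, hwD⟩ hw
      rw [mem_center_iff]
      rintro ⟨g, hg⟩
      apply Subtype.ext
      exact mem_center_iff.1 (hWc hw) g) (hWp.of_equiv (subgroupOfEquivOfLe hWD).symm) (by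
      have h1 := Subgroup.card_mul_index (W.subgroupOf D)
      have h2 : Nat.card (W.subgroupOf D) = Nat.card W :=
        Nat.card_congr (subgroupOfEquivOfLe hWD).toEquiv
      rw [h2, hcard] at h1
      have h3 : (W.subgroupOf D).index = Nat.card E :=
        Nat.eq_of_mul_eq_mul_left Nat.card_pos h1
      rw [h3]
      exact (Nat.Prime.coprime_iff_not_dvd hp.out).1 hEc.symm)
  have hKn : (K.map D.subtype).Normal := by
    have := hKchar
    infer_instance
  have hK1 : K.map D.subtype ≤ pPrimeCore p X :=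
    Lib.Cores.le_pPrimeCore hKn (by rw [card_map_of_injective D.subtype_injective]; exact hKc)
  rw [hX, le_bot_iff, map_eq_bot_iff_of_injective _ D.subtype_injective] at hK1
  rw [hK1, sup_bot_eq, subgroupOf_eq_top] at hsup
  rw [eq_bot_iff]
  intro e he
  obtain ⟨x, rfl⟩ := QuotientGroup.mk'_surjective W e
  have h1 : x ∈ W := hsup he
  rw [mem_bot]
  exact (QuotientGroup.eq_one_iff x).2 h1

theorem omegaOne_center_char (p : ℕ) (S : Type*) [Group S] :
    (omegaOne p (center S)).Characteristic := by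
  rw [characteristic_iff_map_le]
  intro φ
  rw [omegaOne, MonoidHom.map_closure]
  apply Subgroup.closure_mono
  rintro _ ⟨x, ⟨hx1, hx2⟩, rfl⟩
  refine ⟨?_, ?_⟩
  · rw [mem_center_iff] at hx1 ⊢
    intro g
    obtain ⟨h, rfl⟩ := φ.surjective g
    show φ h * φ x = φ x * φ h
    rw [← map_mul, ← map_mul, hx1]
  · show φ x ^ p = 1
    rw [← map_pow, hx2, map_one]

theorem omegaOne_inf_centralizer {G : Type*} [Group G] (p : ℕ) (S : Subgroup G) :
    omegaOne p (S ⊓ centralizer (S : Set G)) = (omegaOne p (center ↥S)).map S.subtype := by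
  rw [omegaOne, omegaOne, MonoidHom.map_closure]
  congr 1
  ext x
  constructor
  · rintro ⟨⟨hx1, hx2⟩, hx3⟩
    refine ⟨⟨x, hx1⟩, ⟨?_, Subtype.ext hx3⟩, rfl⟩
    show (⟨x, hx1⟩ : ↥S) ∈ center ↥S
    rw [mem_center_iff]
    rintro ⟨g, hg⟩
    exact Subtype.ext (mem_centralizer_iff.1 hx2 g hg)
  · rintro ⟨y, ⟨hy1, hy2⟩, rfl⟩
    refine ⟨⟨y.2, ?_⟩, ?_⟩
    · show (y : G) ∈ centralizer (S : Set G)
      rw [mem_centralizer_iff]
      intro g hg
      exact congrArg Subtype.val (mem_center_iff.1 hy1 ⟨g, hg⟩)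
    · exact congrArg Subtype.val hy2

theorem two_three_dvd {G : Type u} [Group G] [Finite G] {p : ℕ} [Fact p.Prime]
    (hsep : IsPSolvable p G) (hO : pPrimeCore p G = ⊥) (hnf : ¬ IsThompsonFactorizable p G) :
    2 ∣ Nat.card G ∧ 3 ∣ Nat.card G := by
  obtain ⟨hp, E, -, -, -, hn, ⟨e⟩⟩ := Cfsg.Agent.S0618.result hsep hO hnf
  have h6 : 6 ∣ Nat.card (Matrix.SpecialLinearGroup (Fin 2) (ZMod p)) := by
    rcases hp with rfl | rfl
    · rw [Cfsg.Agent.PLocal.FFFamily.card_sl_two]
    · rw [Cfsg.Agent.PLocal.FFFamily.card_sl_three]; decide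
  rw [← Nat.card_congr e.toEquiv] at h6
  have h7 := h6.trans ((Subgroup.card_quotient_dvd_card _).trans (Subgroup.card_subgroup_dvd_card E))
  exact ⟨(by decide : 2 ∣ 6).trans h7, (by decide : 3 ∣ 6).trans h7⟩

/-- a subgroup `C` of `N` containing a Sylow `p`-subgroup and all `q`-elements of a `{p, q}`-group
contains everything -/
theorem le_of_pq {X : Type*} [Group X] [Finite X] {p q : ℕ} [hp : Fact p.Prime] [hq : Fact q.Prime]
    (hpq : ∀ r : ℕ, r.Prime → r ∣ Nat.card X → r = p ∨ r = q) (P : Sylow p X) (N C : Subgroup X)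
    (hPC : (P : Subgroup X) ≤ C) (hC : ∀ x ∈ N, (∃ k : ℕ, x ^ (q ^ k) = 1) → x ∈ C)
    (hPN : (P : Subgroup X) ≤ N) : N ≤ C := by
  have h0 : C.relIndex N = 1 := by
    by_contra hne
    obtain ⟨r, hr, hrd⟩ := Nat.exists_prime_and_dvd hne
    have hrX : r ∣ Nat.card X :=
      (hrd.trans (Subgroup.index_dvd_card (C.subgroupOf N))).trans (Subgroup.card_subgroup_dvd_card N)
    rcases hpq r hr hrX with rfl | rfl
    · have h1 : C.relIndex N ∣ (P : Subgroup X).relIndex N :=
        Subgroup.relIndex_dvd_of_le_left N hPC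
      have h2 : (P : Subgroup X).relIndex N ∣ (P : Subgroup X).index :=
        ⟨N.index, (Subgroup.relIndex_mul_index hPN).symm⟩
      exact P.not_dvd_index (hrd.trans (h1.trans h2))
    · let Q : Sylow r ↥N := default
      have h1 : (Q : Subgroup ↥N) ≤ C.subgroupOf N := by
        intro x hx
        rw [mem_subgroupOf]
        obtain ⟨k, hk⟩ := Q.2 ⟨x, hx⟩
        refine hC x x.2 ⟨k, ?_⟩
        have := congrArg (fun y : ↥(Q : Subgroup ↥N) => ((y : ↥N) : X)) hk
        simpa using this
      have h2 : (C.subgroupOf N).index ∣ (Q : Subgroup ↥N).index := Subgroup.index_dvd_of_le h1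
      exact Q.not_dvd_index (hrd.trans h2)
  exact Subgroup.relIndex_eq_one.1 h0

/-- **The induction.** -/
theorem not_dvd (p q : ℕ) [hp : Fact p.Prime] [hq : Fact q.Prime] (hpq : p ≠ q)
    (h23 : ¬ ((p = 2 ∧ q = 3) ∨ (p = 3 ∧ q = 2))) :
    ∀ n : ℕ, ∀ (X : Type u) [Group X] [Finite X], Nat.card X = n →
      (∀ r : ℕ, r.Prime → r ∣ Nat.card X → r = p ∨ r = q) → IsPSolvable p X →
      pPrimeCore p X = ⊥ → ∀ P : Sylow p X, Star q (P : Subgroup X) → ¬ q ∣ Nat.card X := by
  intro n
  induction n using Nat.strong_induction_on with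
  | _ n ih =>
  intro X _ _ hn hprimes hsol hO P hstar hdvd
  have hfac : IsThompsonFactorizable p X := by
    by_contra hnf
    obtain ⟨h2, h3⟩ := two_three_dvd hsol hO hnf
    have h2' := hprimes 2 Nat.prime_two h2
    have h3' := hprimes 3 Nat.prime_three h3
    omega
  -- the subgroup `W = Ω₁(Z(P))`
  set W : Subgroup X := omegaOne p ((P : Subgroup X) ⊓ centralizer ((P : Subgroup X) : Set X)) with hW
  have hWeq : W = (omegaOne p (center ↥(P : Subgroup X))).map (P : Subgroup X).subtype :=
    omegaOne_inf_centralizer p _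
  have hWP : W ≤ (P : Subgroup X) := by rw [hWeq]; exact map_subtype_le _
  have hPW : (P : Subgroup X) ≤ centralizer (W : Set X) := by
    have h1 : W ≤ centralizer ((P : Subgroup X) : Set X) := by
      rw [hW, omegaOne, closure_le]
      rintro x ⟨⟨_, hx⟩, _⟩
      exact hx
    exact le_centralizer_iff.1 h1
  -- `W ≤ J(P)`
  have hWJ : W ≤ thompsonSubgroupOf p (P : Subgroup X) := by
    rw [hWeq, thompsonSubgroupOf]
    apply map_mono
    rw [omegaOne, closure_le]
    rintro x ⟨hx1, hx2⟩
    by_cases h1 : x = 1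
    · rw [h1]; exact one_mem _
    · refine Cfsg.Agent.S0605.result x ?_ (orderOf_eq_prime hx2 h1)
      rw [mem_centralizer_iff]
      intro g _
      exact mem_center_iff.1 hx1 g
  have hJchar := (Cfsg.Agent.S0602.result (G := ↥(P : Subgroup X)) (p := p)).1
  -- `N(J(P)) ≤ C(W)`
  have hN : normalizer (thompsonSubgroupOf p (P : Subgroup X) : Set X) ≤ centralizer (W : Set X) := by
    refine le_of_pq hprimes P _ _ hPW ?_ ?_
    · intro x hx hxq
      have h1 := hstar _ hJchar x hxq hx
      exact centralizer_le (show (W : Set X) ⊆ _ from hWJ) h1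
    · have := hJchar
      have h1 : ((thompsonSubgroup p ↥(P : Subgroup X))).Normal := inferInstance
      intro x hx
      rw [mem_normalizer_iff]
      intro y
      constructor
      · rintro ⟨z, hz, rfl⟩
        exact ⟨⟨x, hx⟩ * z * ⟨x, hx⟩⁻¹, h1.conj_mem z hz _, rfl⟩
      · rintro ⟨z, hz, hzy⟩
        refine ⟨⟨x, hx⟩⁻¹ * z * ⟨x, hx⟩, ?_, ?_⟩
        · have := h1.conj_mem z hz ⟨x, hx⟩⁻¹
          rwa [inv_inv] at this
        · have h2 : (z : X) = x * y * x⁻¹ := hzy
          show x⁻¹ * (z : X) * x = y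
          rw [h2]; group
  have hWc : W ≤ center X := by
    have h1 : centralizer (W : Set X) = ⊤ := by
      rw [eq_top_iff]
      intro g _
      obtain ⟨x, hx, c, hc, m, hm, rfl⟩ := hfac P g
      rw [hO, mem_bot] at hx
      rw [hx, one_mul]
      exact mul_mem hc (hN hm)
    intro w hw
    rw [mem_center_iff]
    intro g
    have h2 : g ∈ centralizer (W : Set X) := by rw [h1]; trivial
    exact (mem_centralizer_iff.1 h2 w hw).symm
  have hWn : W.Normal := ⟨fun w hw g => by
    have h1 : g * w = w * g := mem_center_iff.1 (hWc hw) g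
    rw [h1, mul_inv_cancel_right]; exact hw⟩
  have hWp : IsPGroup p W := P.2.to_le hWP
  by_cases hPbot : (P : Subgroup X) = ⊥
  · -- `X` is a `p'`-group
    have h1 : (Nat.card X).Coprime p := by
      have h2 := P.not_dvd_index
      rw [hPbot, index_bot] at h2
      exact ((Nat.Prime.coprime_iff_not_dvd hp.out).2 h2).symm
    have h2 : (⊤ : Subgroup X) ≤ pPrimeCore p X :=
      Lib.Cores.le_pPrimeCore inferInstance (by rw [Subgroup.card_top]; exact h1)
    rw [hO, top_le_iff] at h2
    have h3 : Nat.card X = 1 := by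
      rw [← Subgroup.card_top (G := X), ← h2, Subgroup.card_bot]
    rw [h3, Nat.dvd_one] at hdvd
    exact hq.out.one_lt.ne' hdvd
  · have hWne : W ≠ ⊥ := by
      rw [hWeq, Ne, map_eq_bot_iff_of_injective _ (P : Subgroup X).subtype_injective]
      have : Nontrivial ↥(P : Subgroup X) := (Subgroup.nontrivial_iff_ne_bot _).2 hPbot
      exact Cfsg.Agent.PLocal.StableClosure.omegaOne_center_ne_bot P.2
    have hcard := Subgroup.card_eq_card_quotient_mul_card_subgroup W
    have hlt : Nat.card (X ⧸ W) < n := by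
      rw [← hn, hcard]
      have h1 : 1 < Nat.card W := (Subgroup.one_lt_card_iff_ne_bot W).2 hWne
      have h2 : 0 < Nat.card (X ⧸ W) := Nat.card_pos
      nlinarith
    have hsurj := QuotientGroup.mk'_surjective W
    have hqW : ¬ q ∣ Nat.card W := by
      obtain ⟨k, hk⟩ := hWp.exists_card_eq
      rw [hk]
      intro h
      exact hpq ((Nat.prime_dvd_prime_iff_eq hq.out hp.out).1 (hq.out.dvd_of_dvd_pow h)).symm
    have hdvd' : q ∣ Nat.card (X ⧸ W) := by
      rw [hcard] at hdvd
      exact (hq.out.dvd_mul.1 hdvd).resolve_right hqW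
    refine ih _ hlt (X ⧸ W) rfl ?_ ?_ ?_ (P.mapSurjective hsurj) ?_ hdvd'
    · intro r hr hrd
      exact hprimes r hr (hrd.trans (Subgroup.card_quotient_dvd_card W))
    · exact Lib.PSolvable.IsPSolvable_of_surjective p hsol _ hsurj
    · exact pPrimeCore_quotient_central hO W hWc hWp
    · have h1 : ((P.mapSurjective hsurj : Sylow p (X ⧸ W)) : Subgroup (X ⧸ W)) =
          (P : Subgroup X).map (QuotientGroup.mk' W) := rfl
      rw [h1]
      refine hstar.map_of_le _ hsurj _ ?_ ?_
      · rw [QuotientGroup.ker_mk', hWeq]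
        have h2 : ((omegaOne p (center ↥(P : Subgroup X))).map (P : Subgroup X).subtype).subgroupOf
            (P : Subgroup X) = omegaOne p (center ↥(P : Subgroup X)) :=
          comap_map_eq_self_of_injective (P : Subgroup X).subtype_injective _
        rw [h2]
        exact omegaOne_center_char p _
      · rw [QuotientGroup.ker_mk']; exact hWP

end Cfsg.Agent.H586.AutPQ
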