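import Mathlib
import Cfsg.Prelude.Def_Local
import Cfsg.Prelude.Def_PLocal
import Cfsg.Agent.Lib.Cores
import Cfsg.Agent.Lib.PSolvable
import Cfsg.Agent.PLocal.PConstrained

/-!
# Characteristic subgroups of `P` centralised by the `q`-elements normalising them

`Star p q P`: every `q`-element normalising a characteristic subgroup of `P` centralises it.
Inheritance by injective homomorphisms and by quotients.
-/

set_option autoImplicit false

open Subgroup Cfsg

namespace Cfsg.Agent.H586.AutStar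

/-- every `q`-element normalising a characteristic subgroup of `P` centralises it -/
def Star (q : ℕ) {X : Type*} [Group X] (P : Subgroup X) : Prop :=
  ∀ K : Subgroup ↥P, K.Characteristic → ∀ x : X, (∃ k : ℕ, x ^ (q ^ k) = 1) →
    x ∈ normalizer ((K.map P.subtype : Subgroup X) : Set X) →
    x ∈ centralizer ((K.map P.subtype : Subgroup X) : Set X)

/-- the preimage of a characteristic subgroup under a surjection with characteristic kernel -/
theorem char_comap {A B : Type*} [Group A] [Group B] (f : A →* B) (hf : Function.Surjective f)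
    (hk : f.ker.Characteristic) {K : Subgroup B} (hK : K.Characteristic) :
    (K.comap f).Characteristic := by
  rw [characteristic_iff_le_comap]
  intro φ x hx
  rw [mem_comap] at hx ⊢
  rw [mem_comap]
  -- the induced endomorphism
  have hker : ∀ y : A, y ∈ f.ker → f (φ y) = 1 := by
    intro y hy
    have : y ∈ f.ker.comap φ.toMonoidHom := by
      rw [characteristic_iff_comap_eq.1 hk φ]; exact hy
    exact this
  have hker' : ∀ y : A, y ∈ f.ker → f (φ.symm y) = 1 := by
    intro y hy
    have : y ∈ f.ker.comap φ.symm.toMonoidHom := by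
      rw [characteristic_iff_comap_eq.1 hk φ.symm]; exact hy
    exact this
  have hw : ∀ u v : A, f u = f v → f (φ u) = f (φ v) := by
    intro u v h
    have : v⁻¹ * u ∈ f.ker := by rw [MonoidHom.mem_ker, map_mul, map_inv, h]; simp
    have := hker _ this
    rw [map_mul, map_inv, map_mul, map_inv] at this
    exact (inv_mul_eq_one.1 this).symm
  have hw' : ∀ u v : A, f u = f v → f (φ.symm u) = f (φ.symm v) := by
    intro u v h
    have : v⁻¹ * u ∈ f.ker := by rw [MonoidHom.mem_ker, map_mul, map_inv, h]; simp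
    have := hker' _ this
    rw [map_mul, map_inv, map_mul, map_inv] at this
    exact (inv_mul_eq_one.1 this).symm
  choose s hs using hf
  let ψ : B ≃* B :=
    { toFun := fun b => f (φ (s b))
      invFun := fun b => f (φ.symm (s b))
      left_inv := by
        intro b
        have h1 : f (φ.symm (s (f (φ (s b))))) = f (φ.symm (φ (s b))) := hw' _ _ (hs _)
        simp only [h1, MulEquiv.symm_apply_apply, hs]
      right_inv := by
        intro b
        have h1 : f (φ (s (f (φ.symm (s b))))) = f (φ (φ.symm (s b))) := hw _ _ (hs _)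
        simp only [h1, MulEquiv.apply_symm_apply, hs]
      map_mul' := by
        intro a b
        have h1 : f (φ (s (a * b))) = f (φ (s a * s b)) := hw _ _ (by rw [hs, map_mul, hs, hs])
        rw [h1, map_mul, map_mul] }
  have h2 : f x ∈ K.comap ψ.toMonoidHom := by
    rw [characteristic_iff_comap_eq.1 hK ψ]; exact hx
  have h3 : ψ (f x) = f (φ x) := hw _ _ (hs _)
  have h4 : ψ (f x) ∈ K := h2
  rw [h3] at h4
  exact h4

/-- `Star` is inherited along injective homomorphisms. -/
theorem Star.of_injective {q : ℕ} {X Y : Type*} [Group X] [Group Y] (f : Y →* X)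
    (hf : Function.Injective f) (P : Subgroup Y) (h : Star q (P.map f)) : Star q P := by
  intro K hK x hx hn
  let e : ↥P ≃* ↥(P.map f) := P.equivMapOfInjective f hf
  have hK' : (K.map e.toMonoidHom).Characteristic := by
    have h1 : K.map e.toMonoidHom = K.comap e.symm.toMonoidHom := by
      ext y
      constructor
      · rintro ⟨z, hz, rfl⟩
        show e.symm (e z) ∈ K
        rwa [MulEquiv.symm_apply_apply]
      · intro hy
        exact ⟨e.symm y, hy, e.apply_symm_apply y⟩
    rw [h1]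
    refine char_comap _ e.symm.surjective ?_ hK
    have : e.symm.toMonoidHom.ker = ⊥ := by
      rw [MonoidHom.ker_eq_bot_iff]; exact e.symm.injective
    rw [this]; infer_instance
  have hmap : (K.map e.toMonoidHom).map (P.map f).subtype = (K.map P.subtype).map f := by
    ext y
    constructor
    · rintro ⟨_, ⟨z, hz, rfl⟩, rfl⟩
      exact ⟨z, ⟨z, hz, rfl⟩, rfl⟩
    · rintro ⟨_, ⟨z, hz, rfl⟩, rfl⟩
      exact ⟨e z, ⟨z, hz, rfl⟩, rfl⟩
  have h1 := h _ hK' (f x) (by obtain ⟨k, hk⟩ := hx; exact ⟨k, by rw [← map_pow, hk, map_one]⟩)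
  rw [hmap] at h1
  have h2 : f x ∈ normalizer (((K.map P.subtype).map f : Subgroup X) : Set X) := by
    rw [mem_normalizer_iff] at hn ⊢
    intro y
    constructor
    · rintro ⟨z, hz, rfl⟩
      exact ⟨x * z * x⁻¹, (hn z).1 hz, by simp⟩
    · rintro ⟨z, hz, hz'⟩
      have h0 : x * (x⁻¹ * z * x) * x⁻¹ = z := by group
      refine ⟨x⁻¹ * z * x, (hn _).2 (by rw [h0]; exact hz), ?_⟩
      rw [map_mul, map_mul, map_inv, hz']; group
  have h3 := h1 h2
  rw [mem_centralizer_iff] at h3 ⊢
  intro y hy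
  apply hf
  rw [map_mul, map_mul]
  exact h3 (f y) ⟨y, hy, rfl⟩

/-- the `q`-part of a lift of a `q`-element -/
theorem exists_q_lift {q : ℕ} [Fact q.Prime] {X Y : Type*} [Group X] [Finite X] [Group Y]
    (f : X →* Y) (x : X) (hx : ∃ k : ℕ, f x ^ (q ^ k) = 1) :
    ∃ m : ℕ, f (x ^ m) = f x ∧ ∃ k : ℕ, (x ^ m) ^ (q ^ k) = 1 := by
  obtain ⟨k, hk⟩ := hx
  have hq : q.Prime := Fact.out
  obtain ⟨a, b, hb, hab⟩ : ∃ a b : ℕ, ¬ q ∣ b ∧ orderOf x = q ^ a * b :=
    Nat.exists_eq_pow_mul_and_not_dvd (orderOf_pos x).ne' q hq.ne_one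
  have hcop : Nat.Coprime b (q ^ k) :=
    (Nat.Coprime.pow_right k ((Nat.Prime.coprime_iff_not_dvd hq).2 hb).symm)
  obtain ⟨m, hm1, hm2⟩ := Nat.chineseRemainder hcop 0 1
  refine ⟨m, ?_, a, ?_⟩
  · rw [map_pow]
    have h1 : f x ^ m = f x ^ 1 := by
      rw [pow_eq_pow_iff_modEq]
      exact hm2.of_dvd (orderOf_dvd_of_pow_eq_one hk)
    rw [h1, pow_one]
  · have hbm : b ∣ m := (Nat.modEq_zero_iff_dvd).1 hm1
    obtain ⟨c, rfl⟩ := hbm
    rw [← pow_mul]
    apply orderOf_dvd_iff_pow_eq_one.1
    rw [hab]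
    exact ⟨c, by ring⟩

/-- Inheritance by quotients. -/
theorem Star.map_of {q : ℕ} [Fact q.Prime] {X Y : Type*} [Group X] [Finite X] [Group Y]
    (f : X →* Y) (hf : Function.Surjective f) (P : Subgroup X)
    (hker : (f.ker.subgroupOf P).Characteristic)
    (hlift : ∀ K : Subgroup X, K ≤ P → f.ker ⊓ P ≤ K → ∀ x : X,
      f x ∈ normalizer ((K.map f : Subgroup Y) : Set Y) →
      ∃ y : X, f y = f x ∧ y ∈ normalizer (K : Set X))
    (h : Star q P) : Star q (P.map f) := by
  intro K' hK' x' hx' hn'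
  obtain ⟨x, rfl⟩ := hf x'
  have hsurj := f.subgroupMap_surjective P
  have hk1 : (f.subgroupMap P).ker = f.ker.subgroupOf P := by
    ext y
    rw [MonoidHom.mem_ker, mem_subgroupOf, MonoidHom.mem_ker]
    constructor
    · intro h; exact congrArg Subtype.val h
    · intro h; exact Subtype.ext h
  have hchar : (K'.comap (f.subgroupMap P)).Characteristic :=
    char_comap _ hsurj (by rw [hk1]; exact hker) hK'
  set K := K'.comap (f.subgroupMap P) with hKdef
  have hmap : (K.map P.subtype).map f = K'.map (P.map f).subtype := by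
    ext y
    constructor
    · rintro ⟨_, ⟨z, hz, rfl⟩, rfl⟩
      exact ⟨f.subgroupMap P z, hz, rfl⟩
    · rintro ⟨z, hz, rfl⟩
      obtain ⟨w, rfl⟩ := hsurj z
      exact ⟨w, ⟨w, hz, rfl⟩, rfl⟩
  rw [← hmap] at hn' ⊢
  obtain ⟨y, hy, hyn⟩ := hlift (K.map P.subtype) (map_subtype_le _) (by
    rintro z ⟨hz1, hz2⟩
    refine ⟨⟨z, hz2⟩, ?_, rfl⟩
    show f.subgroupMap P ⟨z, hz2⟩ ∈ K'
    have : f.subgroupMap P ⟨z, hz2⟩ = 1 := Subtype.ext hz1
    rw [this]; exact one_mem _) x hn'
  obtain ⟨m, hm1, hm2⟩ := exists_q_lift (q := q) f y (by rw [hy]; exact hx')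
  have h1 := h K hchar (y ^ m) hm2 (pow_mem hyn m)
  rw [← hy, ← hm1]
  rw [mem_centralizer_iff] at h1 ⊢
  rintro _ ⟨z, hz, rfl⟩
  rw [← map_mul, ← map_mul, h1 z hz]

/-- Inheritance by quotients by characteristic subgroups of `P`. -/
theorem Star.map_of_le {q : ℕ} [Fact q.Prime] {X Y : Type*} [Group X] [Finite X] [Group Y]
    (f : X →* Y) (hf : Function.Surjective f) (P : Subgroup X)
    (hker : (f.ker.subgroupOf P).Characteristic) (hle : f.ker ≤ P)
    (h : Star q P) : Star q (P.map f) := by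
  refine h.map_of f hf P hker ?_
  intro K hKP hK x hx
  refine ⟨x, rfl, ?_⟩
  have hmem : ∀ z : X, z ∈ K ↔ f z ∈ K.map f := by
    intro z
    constructor
    · intro hz; exact ⟨z, hz, rfl⟩
    · rintro ⟨w, hw, hwz⟩
      have h1 : w⁻¹ * z ∈ f.ker := by rw [MonoidHom.mem_ker, map_mul, map_inv, hwz]; simp
      have h2 : w⁻¹ * z ∈ K := hK ⟨h1, hle h1⟩
      have h3 := K.mul_mem hw h2
      rwa [mul_inv_cancel_left] at h3
  rw [mem_normalizer_iff] at hx ⊢
  intro z
  rw [hmem, hmem (x * z * x⁻¹), map_mul, map_mul, map_inv]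
  exact hx (f z)

/-- Inheritance by quotients by normal `p'`-subgroups. -/
theorem Star.map_of_coprime {p q : ℕ} [Fact p.Prime] [Fact q.Prime] {X Y : Type*} [Group X]
    [Finite X] [Group Y] (f : X →* Y) (hf : Function.Surjective f) (P : Subgroup X)
    (hP : IsPGroup p P) (hk : (Nat.card f.ker).Coprime p) (h : Star q P) : Star q (P.map f) := by
  have hbot : f.ker ⊓ P = ⊥ := by
    have h1 : (Nat.card ↥(f.ker)).Coprime (Nat.card ↥P) := by
      obtain ⟨n, hn⟩ := hP.exists_card_eq
      rw [hn]; exact hk.pow_right n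
    exact (Subgroup.disjoint_of_coprime_natCard h1).eq_bot
  refine h.map_of f hf P ?_ ?_
  · have : f.ker.subgroupOf P = ⊥ := by
      rw [← Subgroup.inf_subgroupOf_right, hbot]; simp
    rw [this]; infer_instance
  · intro K hKP _ x hx
    have hKp : IsPGroup p K := hP.to_le hKP
    have h1 := Cfsg.Agent.PLocal.PConstrained.map_normalizer_eq f hf hk hKp
    rw [← h1] at hx
    obtain ⟨y, hy, hyx⟩ := hx
    exact ⟨y, hyx, hy⟩

end Cfsg.Agent.H586.AutStar
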